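import Cfsg.Agent.H657.Frob.Transfer
import Cfsg.Agent.H657.Frob.Nonexc
import Cfsg.Agent.H602.B0R.Eng
import Cfsg.Agent.H666.Frob.Assembly
import Cfsg.Agent.H760.Frob.Semi

/-!
# The Frobenius lemma

`G` a finite group with `|G|_p = p` odd. The characters `χ` in the principal `p`-block satisfy
`χ (g ^ p) = χ g` for `p`-regular `g` (`apply_pow`); the nonexceptional ones are fixed by the Galois twists by
`k ≡ p mod |G| / p` (`frob`).
-/

set_option autoImplicit false

namespace Cfsg.Agent.H657.Frob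

open Cfsg IsLocalRing Module Cfsg.Agent.H657 Cfsg.Agent.H760.Frob

attribute [local instance] Above.isAlgClosed

variable {p : ℕ} {G : Type*} [Group G] [Finite G] {M : Ideal AlgInt}

/-- **The Frobenius lemma**, values on the `p`-regular elements. -/
theorem apply_pow (hM : IsPModular p M) (hp2 : p ≠ 2) (hpG : p ∣ Nat.card G) (hG : ¬ p ^ 2 ∣ Nat.card G)
    {χ : IrrCharacter G} (hχ : χ ∈ principalBlock M G) {g : G} (hg : ¬ p ∣ orderOf g) :
    (χ : G → ℂ) (g ^ p) = (χ : G → ℂ) g := by
  have hp : Fact p.Prime := ⟨hM.1⟩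
  obtain ⟨V, hV⟩ := exists_above hM
  have hchar : CharP (ResidueField V) p := hV.charP hM
  have := Fintype.ofFinite G
  obtain ⟨x, hx⟩ := exists_prime_orderOf_dvd_card' p hpG
  refine apply_pow_of_forall hM hV (fun i hi g => ?_) hχ hg
  obtain ⟨v, h1, h2, h3⟩ := H666.Frob.exists_fixed i.rep i.rep_irr (aug_of_under i hi) hx hG
  obtain ⟨d, hd, h0⟩ := exists_equivariant hp2 i.rep hx hG h1 h2 h3
  exact charpoly_map i.rep i.rep_irr d hd h0 g

/-- **The Frobenius lemma**: the nonexceptional characters of the principal `p`-block are fixed by the Galois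
twists by `k ≡ p mod |G| / p`. -/
theorem frob (hM : IsPModular p M) (hp2 : p ≠ 2) (hpG : p ∣ Nat.card G) (hG : ¬ p ^ 2 ∣ Nat.card G) :
    H602.B0R.Frob p M G := by
  have hp : Fact p.Prime := ⟨hM.1⟩
  intro χ hχ hne k hkc hk g
  obtain ⟨ε, -, hε⟩ := hne
  exact apply_pow_of_const hpG hε (fun g hg => apply_pow hM hp2 hpG hG hχ hg) hkc hk g

end Cfsg.Agent.H657.Frob
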